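import Mathlib
import Cfsg.Agent.H459.Inv.Base
import Cfsg.Agent.BpLin.PSL

/-!
# S3830, task I5: `PSL_n(q)`, linear tools (helper172)

* `ns_of_lin` : the linear form for `PSL_n(F)`: `A ∈ GL_n`, `Y ∈ SL_n`, `Y²` scalar, `⟨A, Y⟩` not solvable;
* `toE` : `GL_n(F) ≃* (Fⁿ ≃ₗ Fⁿ)`; `ns_of_end` : the same with linear maps;
* `res` : restriction to an invariant subspace; `not_solvable_of_res`;
* `exists_extend` : extension of an involution of a subspace.
-/

set_option autoImplicit false
set_option linter.unusedSectionVars false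

namespace Cfsg.Agent.H172.Inv

open Subgroup Matrix
open Cfsg.Agent.H459.Inv (NS ns_of_lift)
open Cfsg.Agent.ClassicalGeometry.AutPSL.Root (pr pr_surjective pr_eq_one_iff exists_smul_of_pr_eq pr_eq_of_smul)
open Cfsg.Agent.ClassicalGeometry.AutPSL.Auto (cj fld coe_cj lift_pr)

local notation "plift" => Cfsg.Agent.ClassicalGeometry.AutPSL.Auto.lift

section LinForm

variable {ι F : Type*} [Fintype ι] [DecidableEq ι] [Field F]

/-- `SL` as a subgroup of `GL` -/
def SG (ι F : Type*) [Fintype ι] [DecidableEq ι] [Field F] : Subgroup (GL ι F) :=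
  (Matrix.SpecialLinearGroup.toGL : Matrix.SpecialLinearGroup ι F →* GL ι F).range

theorem toGL_inj : Function.Injective (Matrix.SpecialLinearGroup.toGL : Matrix.SpecialLinearGroup ι F →* GL ι F) := by
  intro a b h
  apply Subtype.ext
  exact congrArg Units.val h

/-- the isomorphism -/
noncomputable def SGe (ι F : Type*) [Fintype ι] [DecidableEq ι] [Field F] : Matrix.SpecialLinearGroup ι F ≃* SG ι F :=
  MonoidHom.ofInjective (f := (Matrix.SpecialLinearGroup.toGL : Matrix.SpecialLinearGroup ι F →* GL ι F)) toGL_inj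

theorem coe_SGe (g : Matrix.SpecialLinearGroup ι F) :
    ((SGe ι F g : SG ι F) : GL ι F) = Matrix.SpecialLinearGroup.toGL g := rfl

/-- a scalar element makes an abelian group -/
theorem solvable_of_scalar {A B : GL ι F} {c : F} (hB : (B : Matrix ι ι F) = c • 1) :
    Group.IsSolvable ↥(closure ({A, B} : Set (GL ι F))) := by
  have hc : A * B = B * A := by
    apply Units.ext
    rw [Units.val_mul, Units.val_mul, hB]
    simp
  apply Group.isSolvable_of_comm
  have h1 : ∀ x ∈ closure ({A, B} : Set (GL ι F)), ∀ y ∈ closure ({A, B} : Set (GL ι F)), x * y = y * x := by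
    intro x hx y hy
    refine Subgroup.closure_induction₂ (p := fun x y _ _ => Commute x y) ?_ ?_ ?_ ?_ ?_ ?_ ?_ hx hy
    · rintro x y (rfl | rfl) (rfl | rfl)
      · exact Commute.refl _
      · exact hc
      · exact hc.symm
      · exact Commute.refl _
    · intro x _; exact Commute.one_left x
    · intro x _; exact Commute.one_right x
    · intro x y z _ _ _ h1 h2; exact h1.mul_left h2
    · intro x y z _ _ _ h1 h2; exact h1.mul_right h2
    · intro x y _ _ h; exact h.inv_left
    · intro x y _ _ h; exact h.inv_right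
  rintro ⟨x, hx⟩ ⟨y, hy⟩
  exact Subtype.ext (h1 x hx y hy)

/-- **The linear form for `PSL(F)`.** -/
theorem ns_of_lin [Finite F] {A : GL ι F} {Y : Matrix.SpecialLinearGroup ι F} {ε : F}
    (hY : (Y : Matrix ι ι F) * Y = ε • 1)
    (hn : ¬ Group.IsSolvable ↥(closure ({A, Matrix.SpecialLinearGroup.toGL Y} : Set (GL ι F)))) :
    NS (plift (cj A)) := by
  have hconj : ∀ (B : GL ι F) (g : Matrix.SpecialLinearGroup ι F),
      B * Matrix.SpecialLinearGroup.toGL g * B⁻¹ = Matrix.SpecialLinearGroup.toGL (cj B g) := by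
    intro B g
    apply Units.ext
    rfl
  have h1 : ∀ (B : GL ι F), ∀ n ∈ SG ι F, B * n * B⁻¹ ∈ SG ι F := by
    rintro B _ ⟨g, rfl⟩
    exact ⟨cj B g, (hconj B g).symm⟩
  have h2 : ∀ n ∈ SG ι F, A⁻¹ * n * A ∈ SG ι F := by
    intro n hn
    have := h1 A⁻¹ n hn
    rwa [inv_inv] at this
  set f : SG ι F →* Matrix.ProjectiveSpecialLinearGroup ι F := (pr : Matrix.SpecialLinearGroup ι F →* _).comp
    (SGe ι F).symm.toMonoidHom with hf
  have hfe : ∀ g : Matrix.SpecialLinearGroup ι F, f (SGe ι F g) = pr g := by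
    intro g
    show pr ((SGe ι F).symm (SGe ι F g)) = pr g
    rw [MulEquiv.symm_apply_apply]
  refine ns_of_lift (Γ := GL ι F) (N := SG ι F) (X := A) (h1 A) h2 f ?_ ?_ (Y := SGe ι F Y) ?_ ?_
  · -- the kernel consists of scalars
    apply Group.isSolvable_of_comm
    rintro ⟨a, ha⟩ ⟨b, hb⟩
    obtain ⟨a, rfl⟩ := (SGe ι F).surjective a
    obtain ⟨b, rfl⟩ := (SGe ι F).surjective b
    apply Subtype.ext
    show SGe ι F a * SGe ι F b = SGe ι F b * SGe ι F a
    rw [← map_mul, ← map_mul]
    congr 1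
    rw [MonoidHom.mem_ker, hfe] at ha
    obtain ⟨c, hc⟩ := exists_smul_of_pr_eq ((map_one (pr : Matrix.SpecialLinearGroup ι F →* _)).trans ha.symm)
    apply Subtype.ext
    show (a : Matrix ι ι F) * b = b * a
    have hc' : (a : Matrix ι ι F) = c • 1 := hc
    rw [hc']
    simp
  · intro n
    obtain ⟨g, rfl⟩ := (SGe ι F).surjective n
    rw [hfe, lift_pr, ← hfe]
    congr 1
    exact Subtype.ext (hconj A g)
  · have : Fact (Nat.Prime 2) := ⟨Nat.prime_two⟩
    rw [hfe]
    apply orderOf_eq_prime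
    · rw [← map_pow, ← map_one (pr : Matrix.SpecialLinearGroup ι F →* _)]
      symm
      apply pr_eq_of_smul (c := ε)
      show (Y ^ 2 : Matrix.SpecialLinearGroup ι F).1 = ε • 1
      rw [pow_two]
      exact hY
    · intro h
      obtain ⟨c, hc⟩ := exists_smul_of_pr_eq ((map_one (pr : Matrix.SpecialLinearGroup ι F →* _)).trans h.symm)
      exact hn (solvable_of_scalar (c := c) hc)
  · exact hn

end LinForm

section Sol

variable {Γ Q : Type*} [Group Γ] [Group Q]

/-- non-solvability through a section -/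
theorem not_solvable_of_hom {M : Subgroup Γ} (f : M →* Q) {g h : Γ} (hg : g ∈ M) (hh : h ∈ M)
    (hn : ¬ Group.IsSolvable ↥(closure ({f ⟨g, hg⟩, f ⟨h, hh⟩} : Set Q))) :
    ¬ Group.IsSolvable ↥(closure ({g, h} : Set Γ)) := by
  intro hs
  apply hn
  have h1 : closure ({g, h} : Set Γ) ≤ M := by
    rw [closure_le]
    rintro z (rfl | rfl)
    · exact hg
    · exact hh
  have h2 : Group.IsSolvable ↥((closure ({g, h} : Set Γ)).subgroupOf M) :=
    Group.isSolvable_of_surjective (f := (subgroupOfEquivOfLe h1).symm.toMonoidHom)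
      (subgroupOfEquivOfLe h1).symm.surjective
  have h3 : Group.IsSolvable ↥(((closure ({g, h} : Set Γ)).subgroupOf M).map f) :=
    Group.isSolvable_of_surjective (f := f.subgroupMap _) (MonoidHom.subgroupMap_surjective _ _)
  have h4 : closure ({f ⟨g, hg⟩, f ⟨h, hh⟩} : Set Q) ≤ ((closure ({g, h} : Set Γ)).subgroupOf M).map f := by
    rw [closure_le]
    rintro z (rfl | rfl)
    · exact ⟨⟨g, hg⟩, Subgroup.subset_closure (Set.mem_insert _ _), rfl⟩
    · exact ⟨⟨h, hh⟩, Subgroup.subset_closure (Set.mem_insert_of_mem _ rfl), rfl⟩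
  exact Group.isSolvable_of_isSolvable_injective (f := inclusion h4) (inclusion_injective h4)

/-- non-solvability through an injective map -/
theorem not_solvable_map {f : Γ →* Q} (hf : Function.Injective f) {g h : Γ}
    (hn : ¬ Group.IsSolvable ↥(closure ({g, h} : Set Γ))) :
    ¬ Group.IsSolvable ↥(closure ({f g, f h} : Set Q)) := by
  intro hs
  apply hn
  have h1 : (closure ({g, h} : Set Γ)).map f = closure ({f g, f h} : Set Q) := by
    rw [MonoidHom.map_closure, Set.image_pair]
  rw [← h1] at hs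
  exact Group.isSolvable_of_isSolvable_injective (f := f.subgroupMap (closure ({g, h} : Set Γ)))
    ((closure ({g, h} : Set Γ)).equivMapOfInjective f hf).injective

end Sol

section Res

variable {F V : Type*} [Field F] [AddCommGroup V] [Module F V]

/-- the stabiliser of a subspace -/
def stab (W : Submodule F V) : Subgroup (V ≃ₗ[F] V) where
  carrier := {g | ∀ v, g v ∈ W ↔ v ∈ W}
  mul_mem' := by
    intro a b ha hb v
    exact (ha (b v)).trans (hb v)
  one_mem' := fun _ => Iff.rfl
  inv_mem' := by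
    intro a ha v
    have h1 : a (a⁻¹ v) = v := a.apply_symm_apply v
    rw [← ha, h1]

theorem mem_stab {W : Submodule F V} {g : V ≃ₗ[F] V} : g ∈ stab W ↔ ∀ v, g v ∈ W ↔ v ∈ W := Iff.rfl

/-- restriction -/
def res (W : Submodule F V) : stab W →* (W ≃ₗ[F] W) where
  toFun g :=
    { toFun := fun w => ⟨(g : V ≃ₗ[F] V) w, (g.2 w).2 w.2⟩
      map_add' := fun a b => Subtype.ext (map_add (g : V ≃ₗ[F] V) (a : V) b)
      map_smul' := fun c a => Subtype.ext (map_smul (g : V ≃ₗ[F] V) c (a : V))
      invFun := fun w => ⟨(g : V ≃ₗ[F] V).symm w, by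
        rw [← g.2, LinearEquiv.apply_symm_apply]; exact w.2⟩
      left_inv := fun w => Subtype.ext ((g : V ≃ₗ[F] V).symm_apply_apply w)
      right_inv := fun w => Subtype.ext ((g : V ≃ₗ[F] V).apply_symm_apply w) }
  map_one' := rfl
  map_mul' _ _ := rfl

theorem coe_res (W : Submodule F V) (g : stab W) (w : W) : (res W g w : V) = (g : V ≃ₗ[F] V) w := rfl

theorem not_solvable_of_res {W : Submodule F V} {g h : V ≃ₗ[F] V} (hg : g ∈ stab W) (hh : h ∈ stab W)
    (hn : ¬ Group.IsSolvable ↥(closure ({res W ⟨g, hg⟩, res W ⟨h, hh⟩} : Set (W ≃ₗ[F] W)))) :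
    ¬ Group.IsSolvable ↥(closure ({g, h} : Set (V ≃ₗ[F] V))) := not_solvable_of_hom (res W) hg hh hn

/-- for a finite dimensional `W` one inclusion is enough -/
theorem mem_stab_of_le [FiniteDimensional F V] {W : Submodule F V} {g : V ≃ₗ[F] V} (h : ∀ w ∈ W, g w ∈ W) :
    g ∈ stab W := by
  have h1 : W.map (g : V →ₗ[F] V) ≤ W := by
    rintro _ ⟨w, hw, rfl⟩
    exact h w hw
  have h2 : W.map (g : V →ₗ[F] V) = W :=
    Submodule.eq_of_le_of_finrank_eq h1 (LinearEquiv.finrank_map_eq g W)
  intro v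
  constructor
  · intro hv
    rw [← h2] at hv
    obtain ⟨w, hw, hwv⟩ := hv
    have : w = v := g.injective hwv
    rwa [← this]
  · exact h v

/-- a reflection -/
theorem exists_refl [FiniteDimensional F V] [Nontrivial V] : ∃ y : V ≃ₗ[F] V, y * y = 1 ∧
    LinearMap.det (y : V →ₗ[F] V) = -1 := by
  classical
  set b := Module.finBasis F V with hb
  have hpos : 0 < Module.finrank F V := Module.finrank_pos
  set i0 : Fin (Module.finrank F V) := ⟨0, hpos⟩ with hi0
  set D : Matrix (Fin (Module.finrank F V)) (Fin (Module.finrank F V)) F :=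
    Matrix.diagonal fun i => if i = i0 then -1 else 1 with hD
  have hDD : D * D = 1 := by
    rw [hD, Matrix.diagonal_mul_diagonal, ← Matrix.diagonal_one]
    congr 1
    funext i
    split_ifs <;> simp
  have hdet : D.det = -1 := by
    rw [hD, Matrix.det_diagonal, Finset.prod_ite_eq' Finset.univ i0]
    simp
  set f : V →ₗ[F] V := Matrix.toLin b b D with hf
  have hff : f ∘ₗ f = LinearMap.id := by
    rw [hf, ← Matrix.toLin_mul, hDD, Matrix.toLin_one]
  refine ⟨LinearEquiv.ofLinearMap f f hff hff, ?_, ?_⟩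
  · ext v
    exact LinearMap.congr_fun hff v
  · show LinearMap.det f = -1
    rw [hf, LinearMap.det_toLin, hdet]

/-- **extension of an involution** -/
theorem exists_extend [FiniteDimensional F V] {W : Submodule F V} {y : W ≃ₗ[F] W} (hy : y * y = 1)
    (h : W ≠ ⊤ ∨ LinearMap.det (y : W →ₗ[F] W) = 1) :
    ∃ (Y : V ≃ₗ[F] V) (hY : Y ∈ stab W), Y * Y = 1 ∧ LinearMap.det (Y : V →ₗ[F] V) = 1 ∧ res W ⟨Y, hY⟩ = y := by
  obtain ⟨W', hW⟩ := Submodule.exists_isCompl W
  -- the action on the complement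
  have hdet : LinearMap.det (y : W →ₗ[F] W) = 1 ∨ LinearMap.det (y : W →ₗ[F] W) = -1 := by
    have h1 : LinearMap.det ((y * y : W ≃ₗ[F] W) : W →ₗ[F] W) = 1 := by rw [hy]; exact LinearMap.det_id
    have h2 : LinearMap.det (y : W →ₗ[F] W) * LinearMap.det (y : W →ₗ[F] W) = 1 := by
      rw [← map_mul]
      exact h1
    exact mul_self_eq_one_iff.1 h2
  obtain ⟨y', hy', hd⟩ : ∃ y' : W' ≃ₗ[F] W', y' * y' = 1 ∧
      LinearMap.det (y : W →ₗ[F] W) * LinearMap.det (y' : W' →ₗ[F] W') = 1 := by
    rcases hdet with h1 | h1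
    · exact ⟨1, one_mul _, by rw [h1]; simp⟩
    · rcases h with h2 | h2
      · have hnt : Nontrivial W' := by
          rw [Submodule.nontrivial_iff_ne_bot]
          rintro rfl
          apply h2
          have := hW.sup_eq_top
          rwa [sup_bot_eq] at this
        obtain ⟨y', hy', hd⟩ := exists_refl (F := F) (V := W')
        exact ⟨y', hy', by rw [h1, hd]; ring⟩
      · exact ⟨1, one_mul _, by rw [h2]; simp⟩
  set e := Submodule.prodEquivOfIsCompl W W' hW with he
  set Y : V ≃ₗ[F] V := (e.symm.trans (y.prodCongr y')).trans e with hYdef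
  have happ : ∀ v, Y v = e ((y.prodCongr y') (e.symm v)) := fun v => rfl
  have hYW : ∀ w : W, Y w = y w := by
    intro w
    rw [happ]
    have h1 : e.symm (w : V) = (w, 0) := by
      rw [LinearEquiv.symm_apply_eq]
      simp [he]
    rw [h1]
    simp [he]
  have hYs : Y ∈ stab W := mem_stab_of_le fun w hw => by
    rw [hYW ⟨w, hw⟩]
    exact (y _).2
  refine ⟨Y, hYs, ?_, ?_, ?_⟩
  · ext v
    show Y (Y v) = v
    rw [happ, happ, LinearEquiv.symm_apply_apply]
    have h2 : (y.prodCongr y') ((y.prodCongr y') (e.symm v)) = e.symm v := by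
      apply Prod.ext
      · exact LinearEquiv.congr_fun hy _
      · exact LinearEquiv.congr_fun hy' _
    rw [h2, LinearEquiv.apply_symm_apply]
  · have h1 : (Y : V →ₗ[F] V) = (e : (W × W') →ₗ[F] V) ∘ₗ ((y : W →ₗ[F] W).prodMap (y' : W' →ₗ[F] W')) ∘ₗ
        (e.symm : V →ₗ[F] (W × W')) := rfl
    rw [h1, LinearMap.det_conj, LinearMap.det_prodMap, hd]
  · ext w
    rw [coe_res]
    exact hYW w

end Res

section End

variable {ι F : Type*} [Fintype ι] [DecidableEq ι] [Field F]

/-- `GL_n` as a group of linear maps -/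
noncomputable def toE : GL ι F ≃* ((ι → F) ≃ₗ[F] (ι → F)) :=
  (Matrix.GeneralLinearGroup.toLin : GL ι F ≃* LinearMap.GeneralLinearGroup F (ι → F)).trans
    (LinearMap.GeneralLinearGroup.generalLinearEquiv F (ι → F))

theorem toE_apply (A : GL ι F) (v : ι → F) : toE A v = (A : Matrix ι ι F) *ᵥ v := rfl

theorem det_toE (A : GL ι F) : LinearMap.det (toE A : (ι → F) →ₗ[F] (ι → F)) = (A : Matrix ι ι F).det := by
  have h1 : (toE A : (ι → F) →ₗ[F] (ι → F)) = Matrix.toLin' (A : Matrix ι ι F) := by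
    apply LinearMap.ext
    intro v
    rw [Matrix.toLin'_apply]
    rfl
  rw [h1, LinearMap.det_toLin']

/-- **The linear form for `PSL(F)`, with linear maps.** -/
theorem ns_of_end [Finite F] {A : GL ι F} {y : (ι → F) ≃ₗ[F] (ι → F)} {ε : F} (hy : ∀ v, y (y v) = ε • v)
    (hdet : LinearMap.det (y : (ι → F) →ₗ[F] (ι → F)) = 1)
    (hn : ¬ Group.IsSolvable ↥(closure ({toE A, y} : Set ((ι → F) ≃ₗ[F] (ι → F))))) :
    NS (plift (cj A)) := by
  obtain ⟨B, rfl⟩ := (toE (ι := ι) (F := F)).surjective y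
  rw [det_toE] at hdet
  have h1 : Matrix.SpecialLinearGroup.toGL ⟨(B : Matrix ι ι F), hdet⟩ = B := Units.ext rfl
  refine ns_of_lin (Y := ⟨(B : Matrix ι ι F), hdet⟩) (ε := ε) ?_ ?_
  · show (B : Matrix ι ι F) * (B : Matrix ι ι F) = ε • 1
    refine Matrix.ext_of_mulVec_single fun j => ?_
    rw [← Matrix.mulVec_mulVec, ← toE_apply, ← toE_apply, hy, Matrix.smul_mulVec, Matrix.one_mulVec]
  · rw [h1]
    intro hs
    apply hn
    rw [← Set.image_pair (toE : GL ι F ≃* _), ← MulEquiv.coe_toMonoidHom, ← MonoidHom.map_closure]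
    exact Group.isSolvable_of_surjective (f := (toE : GL ι F ≃* _).toMonoidHom.subgroupMap _)
      (MonoidHom.subgroupMap_surjective _ _)

end End

end Cfsg.Agent.H172.Inv
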