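import Mathlib
import Cfsg.Agent.H172.Inv.Lin
import Cfsg.Agent.H194.Inv.Base
import Cfsg.Agent.H469.IrrCyc

/-!
# S3830: irreducible elements of even degree `2 m` (helper172)

`A` irreducible on `W` of dimension `2 m` over the finite field `F`, `A ^ p` a scalar, `p ≥ 5`. Then `A ∈ GL_2(E)`,
`E` the extension of degree `m`, is not a scalar, and the base lemma of helper194 over `E` gives

* `even_diag` : `Y ^ 2 = 1` and `⟨A, Y⟩` is not solvable (`Y ≠ -1`, `1`; `det Y = (-1) ^ m`);
* `even_quat` : `Y ^ 2 = -1`, `det Y = 1` and `⟨A, Y⟩` is not solvable (odd characteristic).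
-/

set_option autoImplicit false
set_option linter.unusedSectionVars false

namespace Cfsg.Agent.H172.Inv

open Subgroup Polynomial

variable {F W : Type*} [Field F] [Finite F] [AddCommGroup W] [Module F W] [FiniteDimensional F W]

/-- the structure of a vector space over the extension of degree `m` -/
theorem exists_ext {T : W →ₗ[F] W} [Nontrivial W] (hs : ∀ U : Submodule F W, (∀ w ∈ U, T w ∈ U) → U = ⊥ ∨ U = ⊤) {m : ℕ}
    (hm : Module.finrank F W = 2 * m) (hm0 : m ≠ 0) :
    ∃ (E : Type) (_ : Field E) (_ : Finite E) (_ : Algebra F E) (_ : Module E W), IsScalarTower F E W ∧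
      Module.finrank F E = m ∧ Module.finrank E W = 2 ∧ (∀ (e : E) (w : W), T (e • w) = e • T w) ∧
      ¬ ∃ e : E, ∀ w, T w = e • w := by
  have hirr := Cfsg.Agent.H469.IrrCyc.minpoly_irreducible T hs
  have hdeg := Cfsg.Agent.H469.IrrCyc.finrank_eq T hs
  set f := minpoly F T with hf
  have hfact : Fact (Irreducible f) := ⟨hirr⟩
  let K := AdjoinRoot f
  let α : K := AdjoinRoot.root f
  have hfK : FiniteDimensional F K := PowerBasis.finite (AdjoinRoot.powerBasis hirr.ne_zero)
  have hKfin : Finite K := Module.finite_of_finite F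
  have hfin : Module.finrank F K = 2 * m := by
    rw [PowerBasis.finrank (AdjoinRoot.powerBasis hirr.ne_zero), ← hm, hdeg]
    rfl
  let φ : K →ₐ[F] (W →ₗ[F] W) := Ideal.Quotient.liftₐ (Ideal.span {f}) (aeval T) (by
    intro a ha
    obtain ⟨b, rfl⟩ := Ideal.mem_span_singleton.1 ha
    rw [map_mul, minpoly.aeval, zero_mul])
  have hφα : φ α = T := aeval_X T
  obtain ⟨r, hr⟩ := CharP.exists F
  have hrp : Fact r.Prime := ⟨CharP.char_is_prime F r⟩
  have hmne : NeZero m := ⟨hm0⟩
  let E := FiniteField.Extension F r m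
  have hE : Module.finrank F E = m := FiniteField.finrank_extension F r m
  have hfE : FiniteDimensional F E := Module.finite_of_finrank_pos (by rw [hE]; omega)
  have hEfin : Finite E := Module.finite_of_finite F
  obtain ⟨ψ⟩ : Nonempty (E →ₐ[F] K) := FiniteField.nonempty_algHom_of_finrank_dvd (by
    rw [hE, hfin]; exact Dvd.intro_left 2 rfl)
  let θ : E →ₐ[F] (W →ₗ[F] W) := φ.comp ψ
  let hmod : Module E W := Module.compHom W (θ : E →+* (W →ₗ[F] W))
  have hsmul : ∀ (e : E) (w : W), e • w = θ e w := fun e w => rfl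
  have hst : IsScalarTower F E W := by
    refine ⟨fun a e w => ?_⟩
    rw [hsmul, hsmul, map_smul, LinearMap.smul_apply]
  have hcomm : ∀ (e : E) (w : W), T (e • w) = e • T w := by
    intro e w
    rw [hsmul, hsmul, ← hφα]
    show (φ α * φ (ψ e)) w = (φ (ψ e) * φ α) w
    rw [← map_mul, mul_comm, map_mul]
  refine ⟨E, inferInstance, hEfin, inferInstance, hmod, hst, hE, ?_, hcomm, ?_⟩
  · have h1 := Module.finrank_mul_finrank F E W
    rw [hE, hm] at h1
    have h2 : m * Module.finrank E W = m * 2 := by rw [h1]; ring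
    exact Nat.eq_of_mul_eq_mul_left (Nat.pos_of_ne_zero hm0) h2
  · rintro ⟨e, he⟩
    -- `T` satisfies the minimal polynomial of `e`
    have hT : T = θ e := by
      apply LinearMap.ext
      intro w
      rw [he, hsmul]
    have h1 : aeval T (minpoly F e) = 0 := by
      rw [hT, Polynomial.aeval_algHom_apply, minpoly.aeval, map_zero]
    have hint : IsIntegral F e := Algebra.IsIntegral.isIntegral e
    have h2 : f.natDegree ≤ (minpoly F e).natDegree :=
      Polynomial.natDegree_le_of_dvd (minpoly.dvd F T h1) (minpoly.ne_zero hint)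
    have h3 : (minpoly F e).natDegree ≤ m := (minpoly.natDegree_le e).trans hE.le
    have h4 : f.natDegree = 2 * m := by rw [← hm, hdeg]
    omega

section Rest

variable {E : Type*} [Field E] [Algebra F E] [Module E W] [IsScalarTower F E W]

/-- restriction of scalars -/
def rsc : (W ≃ₗ[E] W) →* (W ≃ₗ[F] W) where
  toFun y := y.restrictScalars F
  map_one' := rfl
  map_mul' _ _ := rfl

theorem rsc_injective : Function.Injective (rsc : (W ≃ₗ[E] W) →* (W ≃ₗ[F] W)) := by
  intro a b h
  ext w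
  exact LinearEquiv.congr_fun h w

end Rest

/-- the common setting -/
theorem even_core {A : W ≃ₗ[F] W} (hs : ∀ U : Submodule F W, (∀ w ∈ U, A w ∈ U) → U = ⊥ ∨ U = ⊤) {m : ℕ}
    (hm : Module.finrank F W = 2 * m) (hm0 : m ≠ 0) {p : ℕ} (hp : p.Prime) (h5 : 5 ≤ p)
    (hA : ∃ c : F, ∀ w, (A ^ p) w = c • w) :
    (∃ Y : W ≃ₗ[F] W, (∀ w, Y (Y w) = w) ∧ ¬ Group.IsSolvable ↥(closure ({A, Y} : Set (W ≃ₗ[F] W)))) ∧
    ((2 : F) ≠ 0 → ∃ Y : W ≃ₗ[F] W, (∀ w, Y (Y w) = -w) ∧ LinearMap.det (Y : W →ₗ[F] W) = 1 ∧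
      ¬ Group.IsSolvable ↥(closure ({A, Y} : Set (W ≃ₗ[F] W)))) := by
  have hnt : Nontrivial W := by
    apply Module.nontrivial_of_finrank_pos (R := F)
    omega
  obtain ⟨E, _, _, _, _, hst, hE, h2, hcomm, hns⟩ := exists_ext (T := (A : W →ₗ[F] W)) hs hm hm0
  let A' : W ≃ₗ[E] W :=
    { A.toEquiv with
      map_add' := map_add A
      map_smul' := fun e w => hcomm e w }
  have hA' : ∀ w, A' w = A w := fun w => rfl
  have hrsc : rsc A' = A := by
    ext w
    rfl
  have hAp : ∀ (k : ℕ) (w : W), (A' ^ k) w = (A ^ k) w := by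
    intro k w
    have h3 : (rsc (A' ^ k) : W ≃ₗ[F] W) = A ^ k := by rw [map_pow, hrsc]
    rw [← h3]
    rfl
  have h3 : ∃ c : E, ∀ w, (A' ^ p) w = c • w := by
    obtain ⟨c, hc⟩ := hA
    exact ⟨algebraMap F E c, fun w => by rw [hAp, hc, algebraMap_smul]⟩
  have h4 : ¬ ∃ c : E, ∀ w, A' w = c • w := hns
  constructor
  · obtain ⟨Y, hY, -, -, hn⟩ := Cfsg.Agent.H194.Inv.lin_diag h2 hp h5 h3 h4
    refine ⟨rsc Y, fun w => hY w, ?_⟩
    have := not_solvable_map (rsc_injective (F := F) (W := W) (E := E)) hn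
    rwa [hrsc] at this
  · intro h20
    have h20' : (2 : E) ≠ 0 := by
      intro h
      apply h20
      apply (algebraMap F E).injective
      rw [map_ofNat, map_zero, h]
    obtain ⟨Y, hY, hd, -, hn⟩ := Cfsg.Agent.H194.Inv.lin_quat h20' h2 hp h5 h3 h4
    refine ⟨rsc Y, fun w => hY w, ?_, ?_⟩
    · have h5 : ((rsc Y : W ≃ₗ[F] W) : W →ₗ[F] W) = ((Y : W →ₗ[E] W).restrictScalars F) := rfl
      rw [h5, LinearMap.det_restrictScalars, hd, map_one]
    · have := not_solvable_map (rsc_injective (F := F) (W := W) (E := E)) hn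
      rwa [hrsc] at this

end Cfsg.Agent.H172.Inv
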