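import Mathlib
import Cfsg.Agent.H172.Inv.Lin
import Cfsg.Agent.H459.Inv.Tools
import Cfsg.Agent.H877.RadPSL
import Cfsg.Agent.LieClassical.SLGen

/-!
# S3830, task I5: irreducible elements of odd degree (helper172)

`odd_irr` : `A ∈ GL_d(F)` irreducible of prime order `p ≥ 5`, `d ≥ 3` odd, `|F|` odd: there is an involution `Y ∈ SL_d(F)`
with `⟨A, Y⟩` not solvable (blocks of cyclic defect: `|N(⟨A⟩) : C(A)|` is odd).
-/

set_option autoImplicit false
set_option linter.unusedSectionVars false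

namespace Cfsg.Agent.H172.Inv

open Subgroup Matrix Polynomial
open Cfsg.Agent.H459.Inv (NS ns_of_odd_index)
open Cfsg.Agent.ClassicalGeometry.AutPSL.Root (pr pr_surjective pr_eq_one_iff exists_smul_of_pr_eq pr_eq_of_smul)
open Cfsg.Agent.ClassicalGeometry.AutPSL.Auto (cj fld coe_cj lift_pr)

local notation "plift" => Cfsg.Agent.ClassicalGeometry.AutPSL.Auto.lift

universe u

section Abs

/-- an even index gives an inverting element -/
theorem exists_inverting {G : Type*} [Group G] [Finite G] {p : ℕ} [hp : Fact p.Prime] {x : G} (hx : orderOf x = p)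
    (h : Even ((centralizer ({x} : Set G)).relIndex (normalizer ((zpowers x : Subgroup G) : Set G)))) :
    ∃ g : G, g * x * g⁻¹ = x⁻¹ := by
  set N := normalizer ((zpowers x : Subgroup G) : Set G) with hN
  set C := (centralizer ({x} : Set G)).subgroupOf N with hC
  have hmem : ∀ n : N, ∃ k : ℤ, (n : G) * x * (n : G)⁻¹ = x ^ k := by
    intro n
    have h1 := (mem_normalizer_iff.1 n.2 x).1 (mem_zpowers x)
    obtain ⟨k, hk⟩ := mem_zpowers_iff.1 h1
    exact ⟨k, hk.symm⟩
  have hCmem : ∀ n : N, n ∈ C ↔ (n : G) * x * (n : G)⁻¹ = x := by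
    intro n
    rw [hC, mem_subgroupOf, mem_centralizer_singleton_iff, mul_inv_eq_iff_eq_mul]
  have hnorm : C.Normal := by
    refine ⟨fun c hc n => ?_⟩
    rw [hCmem] at hc ⊢
    obtain ⟨k, hk⟩ := hmem n⁻¹
    have h1 : (n : G)⁻¹ * x * n = x ^ k := by simpa using hk
    have h2 : (c : G) * x ^ k * (c : G)⁻¹ = x ^ k := by rw [← conj_zpow, hc]
    calc ((n * c * n⁻¹ : N) : G) * x * ((n * c * n⁻¹ : N) : G)⁻¹
        = (n : G) * ((c : G) * ((n : G)⁻¹ * x * n) * (c : G)⁻¹) * (n : G)⁻¹ := by
          push_cast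
          group
      _ = (n : G) * ((n : G)⁻¹ * x * n) * (n : G)⁻¹ := by rw [h1, h2]
      _ = x := by group
  have h2 : 2 ∣ Nat.card (N ⧸ C) := h.two_dvd
  have : Fact (Nat.Prime 2) := ⟨Nat.prime_two⟩
  obtain ⟨q, hq⟩ := exists_prime_orderOf_dvd_card' 2 h2
  obtain ⟨g, rfl⟩ := QuotientGroup.mk'_surjective C q
  have h3 : g ∉ C := by
    intro h3
    have h4 : QuotientGroup.mk' C g = 1 := (QuotientGroup.eq_one_iff g).2 h3
    rw [h4, orderOf_one] at hq
    omega
  have h4 : g ^ 2 ∈ C := by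
    have h5 : QuotientGroup.mk' C (g ^ 2) = 1 := by rw [map_pow, ← hq, pow_orderOf_eq_one]
    exact (QuotientGroup.eq_one_iff _).1 h5
  rw [hCmem] at h3 h4
  obtain ⟨k, hk⟩ := hmem g
  refine ⟨g, ?_⟩
  have h5 : x ^ (k * k) = x := by
    calc x ^ (k * k) = (x ^ k) ^ k := zpow_mul _ _ _
      _ = ((g : G) * x * (g : G)⁻¹) ^ k := by rw [hk]
      _ = (g : G) * x ^ k * (g : G)⁻¹ := conj_zpow
      _ = (g : G) * ((g : G) * x * (g : G)⁻¹) * (g : G)⁻¹ := by rw [hk]
      _ = ((g ^ 2 : N) : G) * x * ((g ^ 2 : N) : G)⁻¹ := by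
        rw [pow_two, Subgroup.coe_mul]
        group
      _ = x := h4
  have h6 : (p : ℤ) ∣ k * k - 1 := by
    rw [← hx, orderOf_dvd_iff_zpow_eq_one, _root_.zpow_sub, h5, zpow_one, mul_inv_cancel]
  have h7 : (p : ℤ) ∣ (k - 1) * (k + 1) := by
    have : (k - 1) * (k + 1) = k * k - 1 := by ring
    rwa [this]
  rcases (Nat.prime_iff_prime_int.1 hp.out).dvd_or_dvd h7 with h8 | h8
  · exfalso
    apply h3
    rw [hk]
    rw [← hx, orderOf_dvd_iff_zpow_eq_one, _root_.zpow_sub, zpow_one, mul_inv_eq_one] at h8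
    exact h8
  · rw [hk]
    rw [← hx, orderOf_dvd_iff_zpow_eq_one, _root_.zpow_add, zpow_one, mul_eq_one_iff_eq_inv] at h8
    exact h8

end Abs

section Galois

variable {F V : Type*} [Field F] [Finite F] [AddCommGroup V] [Module F V] [FiniteDimensional F V] [Nontrivial V]

/-- an irreducible element of odd degree, not of order at most two, is not conjugate to its inverse -/
theorem sq_of_conj_inv {T S B B' : V →ₗ[F] V} (hirr : Irreducible (minpoly F T))
    (hodd : Odd (minpoly F T).natDegree) (hTS : T * S = 1) (hBB' : B * B' = 1) (hB'B : B' * B = 1)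
    (hBT : B * T * B' = S) : T * T = 1 := by
  set f := minpoly F T with hf
  have hfact : Fact (Irreducible f) := ⟨hirr⟩
  have hS : aeval S f = 0 := by
    have h1 : ∀ g : F[X], aeval S g = B * aeval T g * B' := by
      intro g
      induction g using Polynomial.induction_on' with
      | add a b ha hb => rw [map_add, map_add, ha, hb, mul_add, add_mul]
      | monomial k a =>
        rw [aeval_monomial, aeval_monomial]
        have h2 : ∀ k : ℕ, S ^ k = B * T ^ k * B' := by
          intro k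
          induction k with
          | zero => rw [pow_zero, pow_zero, mul_one, hBB']
          | succ k ih =>
            rw [pow_succ, ih, ← hBT, pow_succ]
            calc B * T ^ k * B' * (B * T * B') = B * T ^ k * (B' * B) * T * B' := by simp only [mul_assoc]
              _ = _ := by rw [hB'B]; simp only [mul_assoc, one_mul]
        rw [h2]
        simp only [mul_assoc]
        rw [← mul_assoc, Algebra.commutes, mul_assoc]
    rw [h1, minpoly.aeval, mul_zero, zero_mul]
  let E := AdjoinRoot f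
  let α : E := AdjoinRoot.root f
  have hfE : FiniteDimensional F E := PowerBasis.finite (AdjoinRoot.powerBasis hirr.ne_zero)
  have hEfin : Finite E := Module.finite_of_finite F
  have hfin : Module.finrank F E = f.natDegree := by
    rw [PowerBasis.finrank (AdjoinRoot.powerBasis hirr.ne_zero)]
    rfl
  let φ : E →ₐ[F] (V →ₗ[F] V) := Ideal.Quotient.liftₐ (Ideal.span {f}) (aeval T) (by
    intro a ha
    obtain ⟨b, rfl⟩ := Ideal.mem_span_singleton.1 ha
    rw [map_mul, minpoly.aeval, zero_mul])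
  have hφα : φ α = T := aeval_X T
  have hφ : Function.Injective φ := RingHom.injective φ.toRingHom
  have hα0 : α ≠ 0 := by
    intro h
    rw [h, map_zero] at hφα
    rw [← hφα, zero_mul] at hTS
    exact zero_ne_one hTS
  have hφi : φ α⁻¹ = S := by
    calc φ α⁻¹ = φ α⁻¹ * (T * S) := by rw [hTS, mul_one]
      _ = φ (α⁻¹ * α) * S := by rw [map_mul, hφα, mul_assoc]
      _ = S := by rw [inv_mul_cancel₀ hα0, map_one, one_mul]
  have hroot : aeval α⁻¹ f = 0 := by
    apply hφ
    rw [map_zero, ← Polynomial.aeval_algHom_apply, hφi, hS]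
  let τ : E →ₐ[F] E := AdjoinRoot.liftAlgHom f (Algebra.ofId F _) α⁻¹ (by
    show eval₂ (algebraMap F _) α⁻¹ f = 0
    rw [← aeval_def]
    exact hroot)
  have hτα : τ α = α⁻¹ := AdjoinRoot.liftAlgHom_root _ _ _ _
  have hττ : τ.comp τ = AlgHom.id F E := by
    apply AdjoinRoot.algHom_ext
    show τ (τ α) = α
    rw [hτα, map_inv₀, hτα, inv_inv]
  let t : E ≃ₐ[F] E := AlgEquiv.ofAlgHom τ τ hττ hττ
  have ht2 : t ^ 2 = 1 := by
    rw [pow_two]
    ext z
    exact AlgHom.congr_fun hττ z
  have hcard : Nat.card (E ≃ₐ[F] E) = f.natDegree := by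
    rw [IsGalois.card_aut_eq_finrank, hfin]
  have h1 : orderOf t ∣ Nat.gcd 2 f.natDegree :=
    Nat.dvd_gcd (orderOf_dvd_of_pow_eq_one ht2) (hcard ▸ orderOf_dvd_natCard t)
  have h2 : Nat.gcd 2 f.natDegree = 1 := Nat.coprime_two_left.2 hodd
  rw [h2, Nat.dvd_one, orderOf_eq_one_iff] at h1
  have h3 : α⁻¹ = α := by
    rw [← hτα]
    show t α = α
    rw [h1]
    rfl
  rw [← hφα, ← map_mul]
  nth_rewrite 1 [← h3]
  rw [inv_mul_cancel₀ hα0, map_one]

end Galois

section PSL

variable {ι F : Type*} [Fintype ι] [DecidableEq ι] [Field F]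

/-- diagonal reflections -/
def dg (a : ι) : Matrix ι ι F := Matrix.diagonal fun i => if i = a then -1 else 1

theorem dg_mul_self (a : ι) : dg a * dg a = (1 : Matrix ι ι F) := by
  rw [dg, Matrix.diagonal_mul_diagonal, ← Matrix.diagonal_one]
  congr 1
  funext i
  split_ifs <;> simp

theorem dg_comm (a b : ι) : dg a * dg b = (dg b * dg a : Matrix ι ι F) := by
  rw [dg, dg, Matrix.diagonal_mul_diagonal, Matrix.diagonal_mul_diagonal]
  congr 1
  funext i
  exact mul_comm _ _

theorem det_dg (a : ι) : (dg a : Matrix ι ι F).det = -1 := by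
  rw [dg, Matrix.det_diagonal, Finset.prod_ite_eq' Finset.univ a]
  simp

theorem two_dvd_card_psl [Finite F] (h2 : (2 : F) ≠ 0) {a b c : ι} (hab : a ≠ b) (hac : a ≠ c) (hbc : b ≠ c) :
    2 ∣ Nat.card (Matrix.ProjectiveSpecialLinearGroup ι F) := by
  set Y : Matrix.SpecialLinearGroup ι F := ⟨dg a * dg b, by rw [Matrix.det_mul, det_dg, det_dg]; ring⟩ with hY
  have hYY : Y ^ 2 = 1 := by
    apply Subtype.ext
    show (Y ^ 2 : Matrix.SpecialLinearGroup ι F).1 = 1
    rw [pow_two]
    show (dg a * dg b) * (dg a * dg b) = 1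
    have h : (dg a * dg b * (dg b * dg a) : Matrix ι ι F) = 1 := by
      rw [mul_assoc, ← mul_assoc (dg b), dg_mul_self, one_mul, dg_mul_self]
    rwa [← dg_comm a b] at h
  have : Fact (Nat.Prime 2) := ⟨Nat.prime_two⟩
  have h1 : orderOf (pr Y) = 2 := by
    apply orderOf_eq_prime
    · rw [← map_pow, hYY, map_one]
    · intro h
      obtain ⟨e, he⟩ := exists_smul_of_pr_eq ((map_one (pr : Matrix.SpecialLinearGroup ι F →* _)).trans h.symm)
      have he' : (dg a * dg b : Matrix ι ι F) = e • 1 := he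
      have h3 := congrFun (congrFun he' a) a
      have h4 := congrFun (congrFun he' c) c
      rw [dg, dg, Matrix.diagonal_mul_diagonal] at h3 h4
      simp [hab, hac.symm, hbc.symm] at h3 h4
      rw [← h4] at h3
      apply h2
      linear_combination -h3
  rw [← h1]
  exact orderOf_dvd_natCard _

theorem not_comm_psl (h : 3 ≤ Fintype.card ι) : ¬ IsMulCommutative (Matrix.ProjectiveSpecialLinearGroup ι F) := by
  intro hc
  have hs : IsSimpleGroup (Matrix.ProjectiveSpecialLinearGroup ι F) :=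
    Cfsg.Agent.LieClassical.SLGen.psl_isSimpleGroup h
  have h1 := Cfsg.Agent.LieClassical.SLGen.commutator_eq_top (ι := ι) (F := F) h
  have h2 : (commutator (Matrix.SpecialLinearGroup ι F)).map (pr : Matrix.SpecialLinearGroup ι F →* _) = ⊥ := by
    rw [commutator_def, map_commutator, commutator_eq_bot_iff_le_centralizer]
    intro x _
    rw [mem_centralizer_iff]
    intro y _
    exact hc.is_comm.comm y x
  rw [h1, ← MonoidHom.range_eq_map, MonoidHom.range_eq_top.2 pr_surjective] at h2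
  obtain ⟨x, y, hxy⟩ := hs.toNontrivial
  apply hxy
  have h3 : ∀ z : Matrix.ProjectiveSpecialLinearGroup ι F, z = 1 := fun z => by
    rw [← mem_bot, ← h2]; exact mem_top z
  rw [h3 x, h3 y]

/-- the map to the automorphism group of `PSL` -/
noncomputable def toA : GL ι F →* MulAut (Matrix.ProjectiveSpecialLinearGroup ι F) :=
  (plift : MulAut (Matrix.SpecialLinearGroup ι F) →* _).comp cj

theorem toA_toGL (g : Matrix.SpecialLinearGroup ι F) :
    toA (Matrix.SpecialLinearGroup.toGL g) = MulAut.conj (pr g) := by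
  ext u : 1
  obtain ⟨u, rfl⟩ := pr_surjective u
  show plift (cj (Matrix.SpecialLinearGroup.toGL g)) (pr u) = _
  rw [lift_pr, MulAut.conj_apply, ← map_mul, ← map_inv, ← map_mul]
  congr 1

theorem solvable_map {Γ Q : Type*} [Group Γ] [Group Q] (f : Γ →* Q) {g h : Γ}
    (hs : Group.IsSolvable ↥(closure ({g, h} : Set Γ))) : Group.IsSolvable ↥(closure ({f g, f h} : Set Q)) := by
  have h1 : (closure ({g, h} : Set Γ)).map f = closure ({f g, f h} : Set Q) := by
    rw [MonoidHom.map_closure, Set.image_pair]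
  rw [← h1]
  exact Group.isSolvable_of_surjective (f := f.subgroupMap _) (MonoidHom.subgroupMap_surjective _ _)

/-- back from `NS` to matrices, odd dimension -/
theorem exists_of_ns {A : GL ι F} (hodd : Odd (Fintype.card ι)) (h : NS (plift (cj A))) :
    ∃ Y : Matrix.SpecialLinearGroup ι F, Y * Y = 1 ∧
      ¬ Group.IsSolvable ↥(closure ({A, Matrix.SpecialLinearGroup.toGL Y} : Set (GL ι F))) := by
  obtain ⟨y, hy, hn⟩ := h
  obtain ⟨Y, rfl⟩ := pr_surjective y
  have h1 : pr Y ^ 2 = 1 := by rw [← hy, pow_orderOf_eq_one]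
  obtain ⟨c, hc⟩ := exists_smul_of_pr_eq (((map_one (pr : Matrix.SpecialLinearGroup ι F →* _)).trans h1.symm).trans
    (map_pow pr Y 2).symm)
  have hc' : ((Y ^ 2 : Matrix.SpecialLinearGroup ι F) : Matrix ι ι F) = c • 1 := hc
  have hcd : c ^ Fintype.card ι = 1 := by
    have h2 := congrArg Matrix.det hc'
    rw [(Y ^ 2).2, Matrix.det_smul, Matrix.det_one, mul_one] at h2
    exact h2.symm
  have hcomm : ((Y ^ 2) ^ Fintype.card ι : Matrix.SpecialLinearGroup ι F) = 1 := by
    apply Subtype.ext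
    show (((Y ^ 2) ^ Fintype.card ι : Matrix.SpecialLinearGroup ι F) : Matrix ι ι F) = 1
    rw [Matrix.SpecialLinearGroup.coe_pow, hc', _root_.smul_pow, one_pow, hcd, one_smul]
  refine ⟨Y ^ Fintype.card ι, ?_, fun hs => hn ?_⟩
  · rw [← pow_add, ← two_mul, pow_mul, hcomm]
  · have h2 := solvable_map (toA : GL ι F →* _) hs
    rw [toA_toGL, map_pow] at h2
    have h3 : pr Y ^ Fintype.card ι = pr Y := by
      obtain ⟨k, hk⟩ := hodd
      rw [hk, pow_succ, pow_mul, h1, one_pow, one_mul]
    rw [h3] at h2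
    exact h2

end PSL

section Main

variable {F : Type u} [Field F] [Fintype F]

theorem odd_irr {d r p : ℕ} [hr : Fact r.Prime] [hp : Fact p.Prime] [CharP F r] (hd : 3 ≤ d) (hodd : Odd d)
    (hp5 : 5 ≤ p) (hpr : p ≠ r) (h2 : (2 : F) ≠ 0) {A : GL (Fin d) F} (hA : A ^ p = 1) (hA1 : A ≠ 1)
    (hs : ∀ W : Submodule F (Fin d → F), (∀ w ∈ W, (A : Matrix (Fin d) (Fin d) F) *ᵥ w ∈ W) → W = ⊥ ∨ W = ⊤) :
    ∃ Y : Matrix.SpecialLinearGroup (Fin d) F, Y * Y = 1 ∧
      ¬ Group.IsSolvable ↥(closure ({A, Matrix.SpecialLinearGroup.toGL Y} : Set (GL (Fin d) F))) := by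
  have hne : NeZero d := ⟨by omega⟩
  have hord := Cfsg.Agent.H877.RadPSL.ord_of_irr (F := F) (r := r) (p := p) hpr (toLin' (A : Matrix (Fin d) (Fin d) F))
    (by rw [← toLin'_pow, ← Units.val_pow_eq_pow_val, hA, Units.val_one, toLin'_one]; rfl)
    (by
      intro h
      apply hA1
      apply Units.ext
      apply toLin'.injective
      rw [h, Units.val_one, toLin'_one]
      rfl)
    (by
      intro W hW
      refine hs W fun w hw => ?_
      have := hW w hw
      rwa [toLin'_apply] at this)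
  rw [Module.finrank_fin_fun] at hord
  have hp1 : ∀ c : F, c ^ p = 1 → c = 1 := by
    intro c hc
    have hc0 : c ≠ 0 := by
      rintro rfl
      rw [zero_pow hp.out.ne_zero] at hc
      exact zero_ne_one hc
    by_contra h2
    have h3 : Units.mk0 c hc0 ≠ 1 := by
      intro h
      exact h2 (congrArg Units.val h)
    have h4 : orderOf (Units.mk0 c hc0) = p := orderOf_eq_prime (Units.ext (by simpa using hc)) h3
    have h5 : p ∣ Nat.card Fˣ := by rw [← h4]; exact orderOf_dvd_natCard _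
    rw [Nat.card_units] at h5
    exact hord 1 one_pos (by omega) (by rw [pow_one]; exact h5)
  have hdet : (A : Matrix (Fin d) (Fin d) F).det = 1 := by
    apply hp1
    rw [← Matrix.det_pow, ← Units.val_pow_eq_pow_val, hA, Units.val_one, Matrix.det_one]
  set Ag : Matrix.SpecialLinearGroup (Fin d) F := ⟨(A : Matrix (Fin d) (Fin d) F), hdet⟩ with hAg
  have hAgA : Matrix.SpecialLinearGroup.toGL Ag = A := Units.ext rfl
  have hAgp : Ag ^ p = 1 := by
    apply toGL_inj
    rw [map_pow, hAgA, hA, map_one]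
  have hx : plift (cj A) = MulAut.conj (pr Ag) := by
    rw [← toA_toGL, hAgA]
    rfl
  have hirr : Irreducible (minpoly F (toLin' (A : Matrix (Fin d) (Fin d) F))) :=
    Cfsg.Agent.H469.IrrCyc.minpoly_irreducible _ (by
      intro W hW
      refine hs W fun w hw => ?_
      have := hW w hw
      rwa [toLin'_apply] at this)
  have hdeg : (minpoly F (toLin' (A : Matrix (Fin d) (Fin d) F))).natDegree = d := by
    rw [← Cfsg.Agent.H469.IrrCyc.finrank_eq _ (by
      intro W hW
      refine hs W fun w hw => ?_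
      have := hW w hw
      rwa [toLin'_apply] at this), Module.finrank_fin_fun]
  have hnsc : ∀ c : F, (A : Matrix (Fin d) (Fin d) F) ≠ c • 1 := by
    intro c hc
    obtain ⟨v, hv⟩ : ∃ v : Fin d → F, v ≠ 0 := ⟨Pi.single ⟨0, by omega⟩ 1, (Pi.single_ne_zero_iff).2 one_ne_zero⟩
    rcases hs (Submodule.span F {v}) (by
      intro w hw
      rw [hc, smul_mulVec, one_mulVec]
      exact Submodule.smul_mem _ _ hw) with h | h
    · rw [Submodule.span_singleton_eq_bot] at h
      exact hv h
    · have h1 : Module.finrank F (Submodule.span F {v}) = 1 := finrank_span_singleton hv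
      rw [h, finrank_top, Module.finrank_fin_fun] at h1
      omega
  have hpAg : orderOf (pr Ag) = p := by
    apply orderOf_eq_prime
    · rw [← map_pow, hAgp, map_one]
    · intro h
      obtain ⟨e, he⟩ := exists_smul_of_pr_eq ((map_one (pr : Matrix.SpecialLinearGroup (Fin d) F →* _)).trans h.symm)
      exact hnsc e he
  have hsim : IsSimpleGroup (Matrix.ProjectiveSpecialLinearGroup (Fin d) F) :=
    Cfsg.Agent.LieClassical.SLGen.psl_isSimpleGroup (by rw [Fintype.card_fin]; exact hd)
  have hna : ¬ IsMulCommutative (Matrix.ProjectiveSpecialLinearGroup (Fin d) F) :=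
    not_comm_psl (by rw [Fintype.card_fin]; exact hd)
  refine exists_of_ns (by rw [Fintype.card_fin]; exact hodd) ?_
  obtain ⟨-, hcyc⟩ := Cfsg.Agent.H877.RadPSL.cyc_of_irr (F := F) hp5 hpr (by omega) hA hA1 hs
  obtain ⟨P⟩ : Nonempty (Sylow p (Matrix.ProjectiveSpecialLinearGroup (Fin d) F)) := inferInstance
  rw [hx]
  refine ns_of_odd_index hna P (hcyc P) (by omega) hpAg (two_dvd_card_psl h2 (a := ⟨0, by omega⟩) (b := ⟨1, by omega⟩)
    (c := ⟨2, by omega⟩) (by simp) (by simp) (by simp)) ?_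
  by_contra hev
  rw [Nat.not_odd_iff_even] at hev
  obtain ⟨g, hg⟩ := exists_inverting hpAg hev
  obtain ⟨B, rfl⟩ := pr_surjective g
  rw [← map_inv, ← map_mul, ← map_mul, ← map_inv] at hg
  obtain ⟨c, hc⟩ := exists_smul_of_pr_eq hg.symm
  have hc' : ((B * Ag * B⁻¹ : Matrix.SpecialLinearGroup (Fin d) F) : Matrix (Fin d) (Fin d) F) =
      c • ((Ag⁻¹ : Matrix.SpecialLinearGroup (Fin d) F) : Matrix (Fin d) (Fin d) F) := hc
  have hc1 : c = 1 := by
    apply hp1
    have h3 : (1 : Matrix (Fin d) (Fin d) F) = c ^ p • 1 := by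
      calc (1 : Matrix (Fin d) (Fin d) F)
          = (((B * Ag * B⁻¹) ^ p : Matrix.SpecialLinearGroup (Fin d) F) : Matrix (Fin d) (Fin d) F) := by
            rw [conj_pow, hAgp, mul_one, mul_inv_cancel]; rfl
        _ = (c • ((Ag⁻¹ : Matrix.SpecialLinearGroup (Fin d) F) : Matrix (Fin d) (Fin d) F)) ^ p := by
            rw [Matrix.SpecialLinearGroup.coe_pow, hc']
        _ = c ^ p • (((Ag⁻¹) ^ p : Matrix.SpecialLinearGroup (Fin d) F) : Matrix (Fin d) (Fin d) F) := by
            rw [_root_.smul_pow, Matrix.SpecialLinearGroup.coe_pow]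
        _ = c ^ p • 1 := by rw [inv_pow, hAgp, inv_one]; rfl
    have h4 := congrFun (congrFun h3 ⟨0, by omega⟩) ⟨0, by omega⟩
    simpa using h4.symm
  rw [hc1, one_smul] at hc'
  set T := toLin' (A : Matrix (Fin d) (Fin d) F) with hT
  have hmul : ∀ M N : Matrix.SpecialLinearGroup (Fin d) F, toLin' ((M * N : Matrix.SpecialLinearGroup (Fin d) F) :
      Matrix (Fin d) (Fin d) F) = toLin' (M : Matrix (Fin d) (Fin d) F) * toLin' (N : Matrix (Fin d) (Fin d) F) := by
    intro M N
    rw [Matrix.SpecialLinearGroup.coe_mul, toLin'_mul]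
    rfl
  have hone : toLin' ((1 : Matrix.SpecialLinearGroup (Fin d) F) : Matrix (Fin d) (Fin d) F) = 1 := by
    rw [Matrix.SpecialLinearGroup.coe_one, toLin'_one]
    rfl
  have hne' : Nontrivial (Fin d → F) := inferInstance
  have hTT : T * T = 1 := sq_of_conj_inv (S := toLin' ((Ag⁻¹ : Matrix.SpecialLinearGroup (Fin d) F) :
    Matrix (Fin d) (Fin d) F)) (B := toLin' (B : Matrix (Fin d) (Fin d) F))
    (B' := toLin' ((B⁻¹ : Matrix.SpecialLinearGroup (Fin d) F) : Matrix (Fin d) (Fin d) F)) hirr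
    (by rw [hdeg]; exact hodd)
    (by rw [hT, show (A : Matrix (Fin d) (Fin d) F) = (Ag : Matrix (Fin d) (Fin d) F) from rfl, ← hmul,
      mul_inv_cancel, hone])
    (by rw [← hmul, mul_inv_cancel, hone])
    (by rw [← hmul, inv_mul_cancel, hone])
    (by rw [hT, show (A : Matrix (Fin d) (Fin d) F) = (Ag : Matrix (Fin d) (Fin d) F) from rfl, ← hmul, ← hmul, hc'])
  apply hA1
  have hA2 : A ^ 2 = 1 := by
    apply Units.ext
    apply toLin'.injective
    rw [Units.val_pow_eq_pow_val, toLin'_pow, pow_two, ← hT, hTT, Units.val_one, toLin'_one]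
    rfl
  have h6 : orderOf A ∣ Nat.gcd 2 p := Nat.dvd_gcd (orderOf_dvd_of_pow_eq_one hA2) (orderOf_dvd_of_pow_eq_one hA)
  have h7 : Nat.gcd 2 p = 1 := Nat.coprime_two_left.2 (hp.out.odd_of_ne_two (by omega))
  rw [h7, Nat.dvd_one, orderOf_eq_one_iff] at h6
  exact h6

end Main

end Cfsg.Agent.H172.Inv
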