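import Mathlib
import Cfsg.Agent.H172.Inv.LinMain
import Cfsg.Agent.H172.Inv.Semi

/-!
# S3830, task I5: the row `PSL_n(q)`, `n ≥ 3`, `q` odd (helper172)

`irow_psl_odd` : every automorphism of prime order `p ≥ 5` of `PSL_n(q)` generates a non-solvable group with some
involution.
-/

set_option autoImplicit false
set_option linter.unusedSectionVars false

namespace Cfsg.Agent.H172.Inv

open Subgroup Matrix
open Cfsg.Agent.H459.Inv (NS IRow orb ns_of_orb ns_of_conj)
open Cfsg.Agent.ClassicalGeometry.AutPSL.Root (pr pr_surjective pr_eq_one_iff exists_smul_of_pr_eq pr_eq_of_smul)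
open Cfsg.Agent.ClassicalGeometry.AutPSL.Auto (cj fld coe_cj lift_pr coe_fld_apply)
open Cfsg.Agent.ClassicalGeometry.AutPSL.Main Cfsg.Agent.BpLin

local notation "plift" => Cfsg.Agent.ClassicalGeometry.AutPSL.Auto.lift

section Phi

variable {F : Type*} [Field F] {ι : Type*} [Fintype ι] [DecidableEq ι] {m : ℕ}

/-- block diagonal matrices -/
def blk (m : ℕ) (g : GL (Fin 2) F) : Matrix (Fin 2 ⊕ (Unit ⊕ Fin m)) (Fin 2 ⊕ (Unit ⊕ Fin m)) F :=
  Matrix.fromBlocks (g : Matrix (Fin 2) (Fin 2) F) 0 0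
    (Matrix.fromBlocks (((g : Matrix (Fin 2) (Fin 2) F).det)⁻¹ • 1) 0 0 1)

theorem blk_mul (g h : GL (Fin 2) F) : blk m (g * h) = blk m g * blk m h := by
  unfold blk
  rw [Matrix.fromBlocks_multiply, Matrix.fromBlocks_multiply]
  simp only [Matrix.mul_zero, Matrix.zero_mul, add_zero, zero_add, mul_one, Units.val_mul, Matrix.det_mul]
  congr 2
  rw [Matrix.smul_mul, one_mul, smul_smul, mul_inv]

theorem blk_one : blk m (1 : GL (Fin 2) F) = 1 := by
  unfold blk
  rw [Units.val_one, Matrix.det_one, inv_one, one_smul, Matrix.fromBlocks_one, Matrix.fromBlocks_one]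

theorem det_ne_zero' (g : GL (Fin 2) F) : (g : Matrix (Fin 2) (Fin 2) F).det ≠ 0 :=
  ((Matrix.isUnit_iff_isUnit_det _).1 g.isUnit).ne_zero

theorem det_blk (g : GL (Fin 2) F) : (blk m g).det = 1 := by
  unfold blk
  rw [Matrix.det_fromBlocks_zero₂₁, Matrix.det_fromBlocks_zero₂₁, Matrix.det_smul, Matrix.det_one, Matrix.det_one]
  simp [det_ne_zero' g]

/-- the embedding `GL_2 → SL_n` -/
noncomputable def Phi (e : (Fin 2 ⊕ (Unit ⊕ Fin m)) ≃ ι) : GL (Fin 2) F →* Matrix.SpecialLinearGroup ι F where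
  toFun g := ⟨Matrix.reindexAlgEquiv F F e (blk m g), by rw [Matrix.det_reindexAlgEquiv, det_blk]⟩
  map_one' := by
    apply Subtype.ext
    show Matrix.reindexAlgEquiv F F e (blk m 1) = 1
    rw [blk_one, map_one]
  map_mul' g h := by
    apply Subtype.ext
    show Matrix.reindexAlgEquiv F F e (blk m (g * h)) = Matrix.reindexAlgEquiv F F e (blk m g) *
      Matrix.reindexAlgEquiv F F e (blk m h)
    rw [blk_mul, map_mul]

theorem coe_Phi (e : (Fin 2 ⊕ (Unit ⊕ Fin m)) ≃ ι) (g : GL (Fin 2) F) (i j : ι) :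
    (Phi e g : Matrix ι ι F) i j = blk m g (e.symm i) (e.symm j) := rfl

theorem fld_Phi (e : (Fin 2 ⊕ (Unit ⊕ Fin m)) ≃ ι) (σ : F ≃+* F) (g : GL (Fin 2) F) :
    fld σ (Phi e g) = Phi e (fg σ g) := by
  apply Subtype.ext
  ext i j
  rw [coe_fld_apply, coe_Phi, coe_Phi]
  have hdet : (((fg σ g : GL (Fin 2) F) : Matrix (Fin 2) (Fin 2) F)).det = σ ((g : Matrix (Fin 2) (Fin 2) F).det) := by
    rw [Matrix.det_fin_two, Matrix.det_fin_two, map_sub, map_mul, map_mul]
    rfl
  rcases e.symm i with a | a | a <;> rcases e.symm j with b | b | b <;> simp [blk, hdet, coe_fg, Matrix.one_apply]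

/-- the kernel of the map to `PSL` is abelian -/
theorem solvable_ker (e : (Fin 2 ⊕ (Unit ⊕ Fin m)) ≃ ι) :
    Group.IsSolvable ((pr : Matrix.SpecialLinearGroup ι F →* _).comp (Phi e)).ker := by
  apply Group.isSolvable_of_comm
  have h1 : ∀ a : GL (Fin 2) F, (pr : Matrix.SpecialLinearGroup ι F →* _).comp (Phi e) a = 1 →
      ∃ c : F, (a : Matrix (Fin 2) (Fin 2) F) = c • 1 := by
    intro a ha
    obtain ⟨c, hc⟩ := exists_smul_of_pr_eq ((map_one (pr : Matrix.SpecialLinearGroup ι F →* _)).trans ha.symm)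
    refine ⟨c, ?_⟩
    ext i j
    have h2 := congrFun (congrFun hc (e (Sum.inl i))) (e (Sum.inl j))
    rw [coe_Phi, Equiv.symm_apply_apply, Equiv.symm_apply_apply] at h2
    have h3 : blk m a (Sum.inl i) (Sum.inl j) = (a : Matrix (Fin 2) (Fin 2) F) i j := rfl
    rw [h3] at h2
    rw [h2]
    simp [Matrix.one_apply]
  rintro ⟨a, ha⟩ ⟨b, hb⟩
  obtain ⟨c, hc⟩ := h1 a ha
  apply Subtype.ext
  show a * b = b * a
  apply Units.ext
  rw [Units.val_mul, Units.val_mul, hc]
  simp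

/-- **field automorphisms** -/
theorem ns_fld [Finite F] (e : (Fin 2 ⊕ (Unit ⊕ Fin m)) ≃ ι) {σ : F ≃+* F} {p : ℕ} (hpp : p.Prime) (hp : 5 ≤ p)
    (hσ : σ ^ p = 1) (hσ1 : σ ≠ 1) : NS (plift (fld (ι := ι) σ)) := by
  obtain ⟨Y, hY, -, -, hn⟩ := base_semi_diag hpp hp hσ hσ1
  set f := (pr : Matrix.SpecialLinearGroup ι F →* _).comp (Phi e) with hf
  have hns : ¬ Group.IsSolvable ↥(orb (plift (fld (ι := ι) σ)) (f Y)) := by
    intro hs
    apply hn
    have h1 : closure (Set.range fun i : ℕ =>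
        Matrix.GeneralLinearGroup.map (n := Fin 2) ((σ ^ i : F ≃+* F) : F →+* F) Y) ≤
        (orb (plift (fld (ι := ι) σ)) (f Y)).comap f := by
      rw [closure_le]
      rintro _ ⟨i, rfl⟩
      show f (fg (σ ^ i) Y) ∈ orb (plift (fld (ι := ι) σ)) (f Y)
      have h2 : f (fg (σ ^ i) Y) = ((plift (fld (ι := ι) σ)) ^ i) (f Y) := by
        rw [hf, MonoidHom.comp_apply, MonoidHom.comp_apply, ← fld_Phi, ← lift_pr, map_pow, map_pow]
      rw [h2]
      exact Cfsg.Agent.H459.Inv.pow_mem_orb _ _ i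
    have h2 : Group.IsSolvable ↥((orb (plift (fld (ι := ι) σ)) (f Y)).comap f) :=
      Cfsg.Agent.H459.Inv.isSolvable_comap f (solvable_ker e) hs
    exact Group.isSolvable_of_isSolvable_injective (f := inclusion h1) (inclusion_injective h1)
  refine ns_of_orb ?_ hns
  have : Fact (Nat.Prime 2) := ⟨Nat.prime_two⟩
  apply orderOf_eq_prime
  · rw [← map_pow, pow_two, hY, map_one]
  · intro h
    apply hns
    rw [h]
    have h1 : orb (plift (fld (ι := ι) σ)) (1 : Matrix.ProjectiveSpecialLinearGroup ι F) = ⊥ := by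
      unfold orb
      rw [eq_bot_iff, closure_le]
      rintro _ ⟨i, rfl⟩
      simp
    rw [h1]
    exact Group.isSolvable_of_comm fun a b => Subsingleton.elim _ _

end Phi

/-- **The row `PSL_n(q)`, `n ≥ 3`, `q` odd**, explicit form -/
theorem irow_psl_aux {F : Type*} [Field F] [Fintype F] {n p : ℕ} [hpf : Fact p.Prime] (hn : 3 ≤ n)
    (h20 : (2 : F) ≠ 0) (hp : 5 ≤ p) : IRow p (Matrix.ProjectiveSpecialLinearGroup (Fin n) F) := by
  intro x hx
  have hn0 : NeZero n := ⟨by omega⟩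
  have hnt : Nontrivial (Fin n) := Fin.nontrivial_iff_two_le.2 (by omega)
  have hxp : x ^ p = 1 := by rw [← hx]; exact pow_orderOf_eq_one x
  have hp' : p.Prime := hpf.out
  obtain ⟨A, σ, rfl⟩ := exists_type (n := n) (F := F) (by omega) (hp'.odd_of_ne_two (by omega)) hxp
  rw [← map_pow, pow_type] at hxp
  have h1 : plift (cj (NA A σ p) * fld (σ ^ p)) = plift (fld (ι := Fin n) (1 : F ≃+* F)) := by
    rw [hxp, map_one fld, map_one]
  obtain ⟨⟨c, hc⟩, hσ⟩ := injective_aux h1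
  have hc' : (NA A σ p : Matrix (Fin n) (Fin n) F) = c • 1 := by
    rw [← hc, Matrix.scalar_apply, Matrix.smul_one_eq_diagonal]
  by_cases h2 : σ = 1
  · subst h2
    rw [map_one fld, mul_one] at hx ⊢
    rw [NA_one] at hc'
    obtain ⟨Y, ε, hY, hd, hns⟩ := lin_main (F := F) (V := Fin n → F) h20 (by rw [Module.finrank_fin_fun]; exact hn) hp' hp
      (A := toE A) ⟨c, fun w => by
        rw [← map_pow, toE_apply, hc', Matrix.smul_mulVec, Matrix.one_mulVec]⟩ (by
        rintro ⟨d, hd⟩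
        have h3 : (A : Matrix (Fin n) (Fin n) F) = d • 1 := by
          refine Matrix.ext_of_mulVec_single fun j => ?_
          rw [← toE_apply, hd, Matrix.smul_mulVec, Matrix.one_mulVec]
        have h4 : cj A = 1 := by
          ext g i j
          rw [coe_cj, h3]
          have h5 : (A : Matrix (Fin n) (Fin n) F) * ((A⁻¹ : GL (Fin n) F) : Matrix (Fin n) (Fin n) F) = 1 := A.mul_inv
          rw [h3, Matrix.smul_mul, one_mul] at h5
          rw [Matrix.smul_mul, one_mul, Matrix.smul_mul, ← Matrix.mul_smul, h5, mul_one]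
          rfl
        rw [h4, map_one, orderOf_one] at hx
        omega)
    exact ns_of_end hY hd hns
  · obtain ⟨B, hB⟩ := exists_std hp' h2 hσ hc'
    rw [hB]
    refine ns_of_conj (g := (plift (cj B))⁻¹) ?_
    rw [map_mul, map_mul, map_inv, inv_inv]
    have h3 : (plift (cj B))⁻¹ * (plift (cj B) * plift (fld σ) * (plift (cj B))⁻¹) * plift (cj B) =
        plift (fld (ι := Fin n) σ) := by group
    rw [h3]
    obtain ⟨m, rfl⟩ : ∃ m, n = m + 3 := ⟨n - 3, by omega⟩
    have hcard : Fintype.card (Fin 2 ⊕ (Unit ⊕ Fin m)) = Fintype.card (Fin (m + 3)) := by simp; omega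
    exact ns_fld (Fintype.equivOfCardEq hcard) hp' hp hσ h2

/-- **I5: the row `PSL_n(q)`, `n ≥ 3`, `q` odd** (no induction hypothesis needed) -/
theorem irow_psl_odd {K : Type*} [Group K] {F : Type*} [Field F] [Fintype F] {n p : ℕ}
    [hpf : Fact p.Prime] (hn : 3 ≤ n) (e : Nonempty (K ≃* Matrix.ProjectiveSpecialLinearGroup (Fin n) F))
    (hr : Odd (Fintype.card F)) (hp : 5 ≤ p) : IRow p K := by
  obtain ⟨e⟩ := e
  refine IRow.congr e (irow_psl_aux hn ?_ hp)
  intro h20
  have hch : CharP F 2 := CharTwo.of_one_ne_zero_of_two_eq_zero one_ne_zero h20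
  obtain ⟨k, -, hk⟩ := FiniteField.card F 2
  rw [hk] at hr
  have h1 : Even (2 ^ (k : ℕ)) := (Nat.even_pow.2 ⟨even_two, k.ne_zero⟩)
  exact (Nat.not_even_iff_odd.2 hr) h1

end Cfsg.Agent.H172.Inv
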